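import Mathlib
import Cfsg.Agent.Lib.Helper99.CHO.Defs

/-!
# CHO (S1082): package [COMM-D4]

Commutators of block-monomial isometries of `Σ x_i y_i` (dimension 8) lie in the group `RD4`
generated by the root elements: the commutator is `diag(1,1,1,c²; 1,1,1,c⁻²)`, which is
`h_12(c) h_13(c⁻¹)`.
-/

set_option autoImplicit false
open scoped MatrixGroups
open Matrix

namespace Cfsg.Agent.Lib.Helper83.CHO

open Cfsg.Agent.Lib.Helper99.CHO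

universe u

section
variable {K : Type u} [Field K]

/-- Matrices that are "diagonal in the pairs `(e_i, f_i)`". -/
def BD (α β γ δ : Fin 4 → K) : Matrix (Fin 4 ⊕ Fin 4) (Fin 4 ⊕ Fin 4) K :=
  fromBlocks (diagonal α) (diagonal β) (diagonal γ) (diagonal δ)

theorem BD_mul (α β γ δ α' β' γ' δ' : Fin 4 → K) :
    BD α β γ δ * BD α' β' γ' δ' =
      BD (α * α' + β * γ') (α * β' + β * δ') (γ * α' + δ * γ') (γ * β' + δ * δ') := by
  unfold BD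
  rw [Matrix.fromBlocks_multiply]
  simp only [Matrix.diagonal_mul_diagonal', Matrix.diagonal_add]
  rfl

theorem Q_BD (α β γ δ : Fin 4 → K) (v : Fin 4 ⊕ Fin 4 → K) :
    Cfsg.quadFormPlus 4 K (BD α β γ δ *ᵥ v) =
      ∑ j : Fin 4, (α j * v (Sum.inl j) + β j * v (Sum.inr j)) *
        (γ j * v (Sum.inl j) + δ j * v (Sum.inr j)) := by
  unfold Cfsg.quadFormPlus BD
  apply Finset.sum_congr rfl
  intro j _
  simp [Matrix.fromBlocks_mulVec, Matrix.mulVec_diagonal]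

theorem rel_of_Q (α β γ δ : Fin 4 → K)
    (h : ∀ v, Cfsg.quadFormPlus 4 K (BD α β γ δ *ᵥ v) = Cfsg.quadFormPlus 4 K v) (i : Fin 4) :
    α i * γ i = 0 ∧ β i * δ i = 0 ∧ α i * δ i + β i * γ i = 1 := by
  have key : ∀ x y : K, (α i * x + β i * y) * (γ i * x + δ i * y) = x * y := by
    intro x y
    have h0 := h (Pi.single (Sum.inl i) x + Pi.single (Sum.inr i) y)
    rw [Q_BD] at h0
    unfold Cfsg.quadFormPlus at h0
    rw [Finset.sum_eq_single i, Finset.sum_eq_single i] at h0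
    · simpa [Pi.single_apply] using h0
    all_goals first
      | (intro j _ hj
         simp [Pi.single_apply, hj])
      | simp
  exact ⟨by linear_combination key 1 0, by linear_combination key 0 1,
    by linear_combination key 1 1 - key 1 0 - key 0 1⟩

/-- normal form of a block-monomial isometry -/
theorem dg_form (d : GL (Fin 4 ⊕ Fin 4) K) (hd : d ∈ DgD4 K) :
    ∃ α β γ δ : Fin 4 → K,
      (d : Matrix (Fin 4 ⊕ Fin 4) (Fin 4 ⊕ Fin 4) K) = BD α β γ δ ∧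
      (∀ i : Fin 4, i ≠ 3 → β i = 0 ∧ γ i = 0) ∧
      (∀ i : Fin 4, α i * γ i = 0 ∧ β i * δ i = 0 ∧ α i * δ i + β i * γ i = 1) := by
  obtain ⟨hiso, hsp⟩ := hd
  have hM : (d : Matrix (Fin 4 ⊕ Fin 4) (Fin 4 ⊕ Fin 4) K) =
      BD (fun i => d.val (Sum.inl i) (Sum.inl i)) (fun i => d.val (Sum.inl i) (Sum.inr i))
        (fun i => d.val (Sum.inr i) (Sum.inl i)) (fun i => d.val (Sum.inr i) (Sum.inr i)) := by
    ext i j
    rcases i with i | i <;> rcases j with j | j <;>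
      simp only [BD, Matrix.fromBlocks_apply₁₁, Matrix.fromBlocks_apply₁₂,
        Matrix.fromBlocks_apply₂₁, Matrix.fromBlocks_apply₂₂, Matrix.diagonal_apply] <;>
      by_cases h : i = j
    all_goals first
      | (subst h; simp)
      | (rw [if_neg h]
         exact hsp _ _ (by simp [h]) (by rintro ⟨h1 | h1, h2 | h2⟩ <;> simp_all))
  refine ⟨_, _, _, _, hM, ?_, ?_⟩
  · intro i hi
    constructor
    · exact hsp (Sum.inl i) (Sum.inr i) Sum.inl_ne_inr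
        (fun hh => hh.1.elim (fun h1 => hi (Sum.inl.inj h1)) (fun h1 => Sum.inl_ne_inr h1))
    · exact hsp (Sum.inr i) (Sum.inl i) Sum.inr_ne_inl
        (fun hh => hh.1.elim (fun h1 => Sum.inr_ne_inl h1) (fun h1 => hi (Sum.inr.inj h1)))
  · apply rel_of_Q
    intro v
    have := hiso v v
    rw [← hM]
    exact this

theorem nf83 (p q r s : K) (h1 : p * r = 0) (h2 : q * s = 0) (h3 : p * s + q * r = 1) :
    (q = 0 ∧ r = 0 ∧ p * s = 1) ∨ (p = 0 ∧ s = 0 ∧ q * r = 1) := by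
  by_cases hp : p = 0
  · right
    subst hp
    have h3' : q * r = 1 := by simpa using h3
    have hq : q ≠ 0 := left_ne_zero_of_mul_eq_one h3'
    have hs : s = 0 := by simpa [hq] using h2
    exact ⟨rfl, hs, h3'⟩
  · left
    have hr : r = 0 := by simpa [hp] using h1
    subst hr
    have h3' : p * s = 1 := by simpa using h3
    have hs : s ≠ 0 := right_ne_zero_of_mul_eq_one h3'
    have hq : q = 0 := by simpa [hs] using h2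
    exact ⟨hq, rfl, h3'⟩

theorem scal83 (p₁ q₁ r₁ s₁ p₂ q₂ r₂ s₂ : K) (h1 : p₁ * r₁ = 0) (h2 : q₁ * s₁ = 0)
    (h3 : p₁ * s₁ + q₁ * r₁ = 1) (k1 : p₂ * r₂ = 0) (k2 : q₂ * s₂ = 0)
    (k3 : p₂ * s₂ + q₂ * r₂ = 1) :
    ∃ c : K, c ≠ 0 ∧ c ^ 2 * (p₂ * p₁ + q₂ * r₁) = p₁ * p₂ + q₁ * r₂ ∧
      c ^ 2 * (p₂ * q₁ + q₂ * s₁) = p₁ * q₂ + q₁ * s₂ ∧
      (c⁻¹) ^ 2 * (r₂ * p₁ + s₂ * r₁) = r₁ * p₂ + s₁ * r₂ ∧
      (c⁻¹) ^ 2 * (r₂ * q₁ + s₂ * s₁) = r₁ * q₂ + s₁ * s₂ := by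
  rcases nf83 p₁ q₁ r₁ s₁ h1 h2 h3 with ⟨rfl, rfl, hps₁⟩ | ⟨rfl, rfl, hqr₁⟩ <;>
    rcases nf83 p₂ q₂ r₂ s₂ k1 k2 k3 with ⟨rfl, rfl, hps₂⟩ | ⟨rfl, rfl, hqr₂⟩
  · refine ⟨1, one_ne_zero, ?_, ?_, ?_, ?_⟩ <;> simp <;> ring
  · have hp : p₁ ≠ 0 := left_ne_zero_of_mul_eq_one hps₁
    have hs : s₁ = p₁⁻¹ := eq_inv_of_mul_eq_one_right hps₁
    subst hs
    refine ⟨p₁, hp, ?_, ?_, ?_, ?_⟩ <;> field_simp <;> ring
  · have hs : s₂ ≠ 0 := right_ne_zero_of_mul_eq_one hps₂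
    have hp : p₂ = s₂⁻¹ := eq_inv_of_mul_eq_one_left hps₂
    subst hp
    refine ⟨s₂, hs, ?_, ?_, ?_, ?_⟩ <;> field_simp <;> ring
  · have hq1 : q₁ ≠ 0 := left_ne_zero_of_mul_eq_one hqr₁
    have hr2 : r₂ ≠ 0 := right_ne_zero_of_mul_eq_one hqr₂
    have hr1 : r₁ = q₁⁻¹ := eq_inv_of_mul_eq_one_right hqr₁
    have hq2 : q₂ = r₂⁻¹ := eq_inv_of_mul_eq_one_left hqr₂
    subst hr1 hq2
    refine ⟨q₁ * r₂, mul_ne_zero hq1 hr2, ?_, ?_, ?_, ?_⟩ <;> field_simp <;> ring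

/-! ### The root elements of the roots `±ε₃ ± ε₄` -/

theorem e12_83 (t : K) :
    ED4mat K 12 t = fromBlocks 1 !![0,0,0,0;0,0,0,0;0,0,0,t;0,0,-t,0] 0 1 := by
  ext i j
  rcases i with i | i <;> rcases j with j | j <;> fin_cases i <;> fin_cases j <;>
    simp [ED4mat, ND4, tab3, nListD4, ix8]

theorem e11_83 (t : K) :
    ED4mat K 11 t = fromBlocks 1 0 !![0,0,0,0;0,0,0,0;0,0,0,-t;0,0,t,0] 1 := by
  ext i j
  rcases i with i | i <;> rcases j with j | j <;> fin_cases i <;> fin_cases j <;>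
    simp [ED4mat, ND4, tab3, nListD4, ix8]

theorem e13_83 (t : K) :
    ED4mat K 13 t = fromBlocks !![1,0,0,0;0,1,0,0;0,0,1,t;0,0,0,1] 0 0
      !![1,0,0,0;0,1,0,0;0,0,1,0;0,0,-t,1] := by
  ext i j
  rcases i with i | i <;> rcases j with j | j <;> fin_cases i <;> fin_cases j <;>
    simp [ED4mat, ND4, tab3, nListD4, ix8]

theorem e10_83 (t : K) :
    ED4mat K 10 t = fromBlocks !![1,0,0,0;0,1,0,0;0,0,1,0;0,0,t,1] 0 0
      !![1,0,0,0;0,1,0,0;0,0,1,-t;0,0,0,1] := by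
  ext i j
  rcases i with i | i <;> rcases j with j | j <;> fin_cases i <;> fin_cases j <;>
    simp [ED4mat, ND4, tab3, nListD4, ix8]

theorem n12_83 (c : K) (hc : c ≠ 0) :
    ED4mat K 12 c * ED4mat K 11 (-c⁻¹) * ED4mat K 12 c =
      fromBlocks !![1,0,0,0;0,1,0,0;0,0,0,0;0,0,0,0] !![0,0,0,0;0,0,0,0;0,0,0,c;0,0,-c,0]
        !![0,0,0,0;0,0,0,0;0,0,0,c⁻¹;0,0,-c⁻¹,0] !![1,0,0,0;0,1,0,0;0,0,0,0;0,0,0,0] := by
  rw [e12_83, e11_83, Matrix.fromBlocks_multiply, Matrix.fromBlocks_multiply]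
  congr 1 <;> ext i j <;> fin_cases i <;> fin_cases j <;>
    simp [Matrix.mul_apply, Fin.sum_univ_four, Matrix.one_apply, hc]

theorem h12_83 (c : K) (hc : c ≠ 0) :
    ED4mat K 12 c * ED4mat K 11 (-c⁻¹) * ED4mat K 12 c *
        (ED4mat K 12 (-1) * ED4mat K 11 (- (-1 : K)⁻¹) * ED4mat K 12 (-1)) =
      BD ![1, 1, c, c] 0 0 ![1, 1, c⁻¹, c⁻¹] := by
  rw [n12_83 c hc, n12_83 (-1) (by simp), Matrix.fromBlocks_multiply]
  unfold BD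
  congr 1 <;> ext i j <;> fin_cases i <;> fin_cases j <;>
    simp [Matrix.mul_apply, Fin.sum_univ_four, Matrix.diagonal_apply]

theorem n13_83 (c : K) (hc : c ≠ 0) :
    ED4mat K 13 c * ED4mat K 10 (-c⁻¹) * ED4mat K 13 c =
      fromBlocks !![1,0,0,0;0,1,0,0;0,0,0,c;0,0,-c⁻¹,0] 0 0
        !![1,0,0,0;0,1,0,0;0,0,0,c⁻¹;0,0,-c,0] := by
  rw [e13_83, e10_83, Matrix.fromBlocks_multiply, Matrix.fromBlocks_multiply]
  congr 1 <;> ext i j <;> fin_cases i <;> fin_cases j <;>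
    simp [Matrix.mul_apply, Fin.sum_univ_four, Matrix.one_apply, hc]

theorem h13_83 (c : K) (hc : c ≠ 0) :
    ED4mat K 13 c * ED4mat K 10 (-c⁻¹) * ED4mat K 13 c *
        (ED4mat K 13 (-1) * ED4mat K 10 (- (-1 : K)⁻¹) * ED4mat K 13 (-1)) =
      BD ![1, 1, c, c⁻¹] 0 0 ![1, 1, c⁻¹, c] := by
  rw [n13_83 c hc, n13_83 (-1) (by simp), Matrix.fromBlocks_multiply]
  unfold BD
  congr 1 <;> ext i j <;> fin_cases i <;> fin_cases j <;>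
    simp [Matrix.mul_apply, Fin.sum_univ_four, Matrix.diagonal_apply]

/-- the diagonal vector `(1, 1, 1, c)` -/
def tau83 (c : K) : Fin 4 → K := fun i => if i = 3 then c else 1

theorem T_eq83 (c : K) (hc : c ≠ 0) :
    BD ![1, 1, c, c] 0 0 ![1, 1, c⁻¹, c⁻¹] * BD ![1, 1, c⁻¹, c⁻¹⁻¹] 0 0 ![1, 1, c⁻¹⁻¹, c⁻¹] =
      BD (tau83 (c ^ 2)) 0 0 (tau83 ((c⁻¹) ^ 2)) := by
  rw [BD_mul]
  congr 1 <;> funext i <;> fin_cases i <;> simp [tau83, hc] <;> field_simp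

end

theorem coe_ED4_83 (hU : PkgUnitD4.{u}) {K : Type u} [Field K]
    (r : Fin Cfsg.Lie.chevD4.nroots) (t : K) :
    ((ED4 K r t : GL (Fin 4 ⊕ Fin 4) K) : Matrix (Fin 4 ⊕ Fin 4) (Fin 4 ⊕ Fin 4) K) =
      ED4mat K r.val t := by
  unfold ED4
  rw [dif_pos (hU K r.val t r.isLt)]
  rfl

theorem ED4_mem83 {K : Type u} [Field K] (r : Fin Cfsg.Lie.chevD4.nroots) (t : K) :
    ED4 K r t ∈ RD4 K :=
  Subgroup.subset_closure ⟨(r, t), rfl⟩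

/-- `diag(1,1,1,c²; 1,1,1,c⁻²)` lies in `RD4`. -/
theorem T_mem83 (hU : PkgUnitD4.{u}) {K : Type u} [Field K] (c : K) (hc : c ≠ 0) :
    ∃ ρ ∈ RD4 K, (ρ : Matrix (Fin 4 ⊕ Fin 4) (Fin 4 ⊕ Fin 4) K) =
      BD (tau83 (c ^ 2)) 0 0 (tau83 ((c⁻¹) ^ 2)) := by
  have h10 : (10 : ℕ) < Cfsg.Lie.chevD4.nroots := by decide
  have h11 : (11 : ℕ) < Cfsg.Lie.chevD4.nroots := by decide
  have h12 : (12 : ℕ) < Cfsg.Lie.chevD4.nroots := by decide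
  have h13 : (13 : ℕ) < Cfsg.Lie.chevD4.nroots := by decide
  refine ⟨ED4 K ⟨12, h12⟩ c * ED4 K ⟨11, h11⟩ (-c⁻¹) * ED4 K ⟨12, h12⟩ c *
      (ED4 K ⟨12, h12⟩ (-1) * ED4 K ⟨11, h11⟩ (- (-1 : K)⁻¹) * ED4 K ⟨12, h12⟩ (-1)) *
      (ED4 K ⟨13, h13⟩ c⁻¹ * ED4 K ⟨10, h10⟩ (-c⁻¹⁻¹) * ED4 K ⟨13, h13⟩ c⁻¹ *
      (ED4 K ⟨13, h13⟩ (-1) * ED4 K ⟨10, h10⟩ (- (-1 : K)⁻¹) * ED4 K ⟨13, h13⟩ (-1))), ?_, ?_⟩
  · exact Subgroup.mul_mem _ (Subgroup.mul_mem _ (Subgroup.mul_mem _ (Subgroup.mul_mem _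
      (ED4_mem83 _ _) (ED4_mem83 _ _)) (ED4_mem83 _ _)) (Subgroup.mul_mem _ (Subgroup.mul_mem _
      (ED4_mem83 _ _) (ED4_mem83 _ _)) (ED4_mem83 _ _))) (Subgroup.mul_mem _ (Subgroup.mul_mem _
      (Subgroup.mul_mem _ (ED4_mem83 _ _) (ED4_mem83 _ _)) (ED4_mem83 _ _)) (Subgroup.mul_mem _
      (Subgroup.mul_mem _ (ED4_mem83 _ _) (ED4_mem83 _ _)) (ED4_mem83 _ _)))
  · simp only [Units.val_mul, coe_ED4_83 hU]
    rw [h12_83 c hc, h13_83 c⁻¹ (inv_ne_zero hc), T_eq83 c hc]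

/-- **[COMM-D4]** -/
theorem pkgCommD4_of (hU : PkgUnitD4.{u}) : PkgCommD4.{u} := by
  intro K _ d₁ hd₁ d₂ hd₂
  obtain ⟨α₁, β₁, γ₁, δ₁, hM₁, hz₁, hr₁⟩ := dg_form d₁ hd₁
  obtain ⟨α₂, β₂, γ₂, δ₂, hM₂, hz₂, hr₂⟩ := dg_form d₂ hd₂
  obtain ⟨c, hc, e1, e2, e3, e4⟩ := scal83 (α₁ 3) (β₁ 3) (γ₁ 3) (δ₁ 3) (α₂ 3) (β₂ 3) (γ₂ 3) (δ₂ 3)
    (hr₁ 3).1 (hr₁ 3).2.1 (hr₁ 3).2.2 (hr₂ 3).1 (hr₂ 3).2.1 (hr₂ 3).2.2
  obtain ⟨ρ, hρ, hρm⟩ := T_mem83 hU c hc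
  have key : ρ * (d₂ * d₁) = d₁ * d₂ := by
    apply Units.ext
    rw [Units.val_mul, Units.val_mul, Units.val_mul, hρm, hM₁, hM₂, BD_mul, BD_mul, BD_mul]
    congr 1 <;> funext i <;> by_cases hi : i = 3
    all_goals first
      | (subst hi
         simp only [Pi.mul_apply, Pi.add_apply, Pi.zero_apply, tau83, if_pos]
         first
          | linear_combination e1
          | linear_combination e2
          | linear_combination e3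
          | linear_combination e4)
      | (simp only [Pi.mul_apply, Pi.add_apply, Pi.zero_apply, tau83, if_neg hi,
           (hz₁ i hi).1, (hz₁ i hi).2, (hz₂ i hi).1, (hz₂ i hi).2]
         ring)
  have hfin : d₁ * d₂ * d₁⁻¹ * d₂⁻¹ = ρ := by
    rw [← key]; group
  rw [hfin]
  exact hρ

end Cfsg.Agent.Lib.Helper83.CHO
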